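import Cfsg.Agent.H226.Tall.Gen
import Cfsg.Agent.OddHalf.D4.M22.Inv
import Cfsg.Agent.H269.CubeMat
import Cfsg.Agent.H992.Stages.Mathieu
import Cfsg.Agent.H239.CpCent
import Cfsg.Agent.UGT.End.M22
import Cfsg.Agent.Lib.HallHigman
import Cfsg.Agent.S0144

/-!
# S2927, [SPM22] (helper968)

`no1_m22`, `rowTwo_m22`.

All involutions of `M22:2` have centralizers of characteristic 2: for the classes 2A, 2C the centralizer is solvable
(orders `384`, `320` in `M22`) and `O(C) = 1`; for the class 2B (`2^3:L3(2)`) we exhibit a normal subgroup `2^3` of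
`C` whose centralizer is a 2-group.
-/

set_option autoImplicit false

namespace Cfsg.Agent.H968.Tall.M22

open Cfsg Subgroup
open Cfsg.Agent.SporadicA.GolayBase Cfsg.Agent.SporadicA.GolayPerm Cfsg.Agent.SporadicA.OctadFix
open Cfsg.Agent.SporadicStructure.M24El Cfsg.Agent.KFacts.MM Cfsg.Agent.J4Type.Aut22
open Cfsg.Agent.KFacts.MM.InvOut (bP cP)
open Cfsg.Agent.OddHalf.D4.M22.Inv (ok22 mem22 ok22_ok)
open Cfsg.Agent.OddHalf.D4.M22
open Cfsg.Agent.H239.CharPLocal (CP)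

/-! ### the class 2B -/

/-- a normal elementary abelian subgroup of `C(γ)` with centralizer a 2-group -/
def TwoN (γ : Equiv.Perm GolayPt) : Prop :=
  ∃ V : Subgroup (Equiv.Perm GolayPt), V ≤ Spor.M22 ∧ (∀ v ∈ V, v * v = 1) ∧ (∀ v ∈ V, v * γ = γ * v) ∧
    (∀ c ∈ D22, c * γ = γ * c → ∀ v ∈ V, c * v * c⁻¹ ∈ V) ∧
    ∀ c ∈ D22, c * γ = γ * c → (∀ v ∈ V, c * v = v * c) → c * c = 1

theorem conj_mem_M22 {m v : Equiv.Perm GolayPt} (hm : m ∈ D22) (hv : v ∈ Spor.M22) : m * v * m⁻¹ ∈ Spor.M22 := by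
  rw [mem_M22_iff_D22] at hv ⊢
  refine ⟨D22.mul_mem (D22.mul_mem hm hv.1) (D22.inv_mem hm), ?_⟩
  have h2 := ((mem_D22_iff v).1 hv.1).2
  have h3 : v none = none ∧ v (some 0) = some 0 := by
    rcases h2 with h2 | h2
    · exact h2
    · exfalso
      have := h2.1
      rw [hv.2] at this
      cases this
  have h4 := ((mem_D22_iff m⁻¹).1 (D22.inv_mem hm)).2
  have h5 : m (m⁻¹ none) = none := m.apply_symm_apply none
  rw [Equiv.Perm.mul_apply, Equiv.Perm.mul_apply]
  rcases h4 with h4 | h4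
  · rw [h4.1] at h5 ⊢
    rw [h3.1, h5]
  · rw [h4.1] at h5 ⊢
    rw [h3.2, h5]

theorem TwoN.conj {γ m : Equiv.Perm GolayPt} (hm : m ∈ Spor.M22) (h : TwoN γ) : TwoN (m * γ * m⁻¹) := by
  obtain ⟨V, h1, h2, h3, h4, h5⟩ := h
  have hcm : ∀ c : Equiv.Perm GolayPt, c * (m * γ * m⁻¹) = (m * γ * m⁻¹) * c →
      (m⁻¹ * c * m) * γ = γ * (m⁻¹ * c * m) := by
    intro c hc
    calc (m⁻¹ * c * m) * γ = m⁻¹ * (c * (m * γ * m⁻¹)) * m := by group
      _ = γ * (m⁻¹ * c * m) := by rw [hc]; group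
  refine ⟨V.map (MulAut.conj m).toMonoidHom, ?_, ?_, ?_, ?_, ?_⟩
  · rintro _ ⟨v, hv, rfl⟩
    exact conj_mem_M22 (M22_le_D22 hm) (h1 hv)
  · rintro _ ⟨v, hv, rfl⟩
    show m * v * m⁻¹ * (m * v * m⁻¹) = 1
    calc m * v * m⁻¹ * (m * v * m⁻¹) = m * (v * v) * m⁻¹ := by group
      _ = 1 := by rw [h2 v hv]; group
  · rintro _ ⟨v, hv, rfl⟩
    show m * v * m⁻¹ * (m * γ * m⁻¹) = m * γ * m⁻¹ * (m * v * m⁻¹)
    calc m * v * m⁻¹ * (m * γ * m⁻¹) = m * (v * γ) * m⁻¹ := by group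
      _ = _ := by rw [h3 v hv]; group
  · rintro c hc hcγ _ ⟨v, hv, rfl⟩
    refine ⟨(m⁻¹ * c * m) * v * (m⁻¹ * c * m)⁻¹, h4 _ (Inv.conj_D22 hm hc) (hcm c hcγ) v hv, ?_⟩
    show m * ((m⁻¹ * c * m) * v * (m⁻¹ * c * m)⁻¹) * m⁻¹ = c * (m * v * m⁻¹) * c⁻¹
    group
  · intro c hc hcγ hcv
    have h6 := h5 (m⁻¹ * c * m) (Inv.conj_D22 hm hc) (hcm c hcγ) (by
      intro v hv
      have h7 : c * (m * v * m⁻¹) = (m * v * m⁻¹) * c := hcv _ ⟨v, hv, rfl⟩
      calc (m⁻¹ * c * m) * v = m⁻¹ * (c * (m * v * m⁻¹)) * m := by group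
        _ = v * (m⁻¹ * c * m) := by rw [h7]; group)
    calc c * c = m * ((m⁻¹ * c * m) * (m⁻¹ * c * m)) * m⁻¹ := by group
      _ = 1 := by rw [h6]; group

/-- the elements of `C_{M22}(γ)` fixing the orbits of `γ` on the points moved by `γ` -/
def Vg (γ : Equiv.Perm GolayPt) (hγ : γ * γ = 1) : Subgroup (Equiv.Perm GolayPt) where
  carrier := {v | v ∈ Spor.M22 ∧ v * γ = γ * v ∧ ∀ p, γ p ≠ p → v p = p ∨ v p = γ p}
  one_mem' := ⟨Spor.M22.one_mem, by rw [one_mul, mul_one], fun p _ => Or.inl rfl⟩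
  mul_mem' := by
    rintro v w ⟨h1, h2, h3⟩ ⟨h4, h5, h6⟩
    refine ⟨Spor.M22.mul_mem h1 h4, by rw [mul_assoc, h5, ← mul_assoc, h2, mul_assoc], fun p hp => ?_⟩
    rw [Equiv.Perm.mul_apply]
    rcases h6 p hp with h7 | h7
    · rw [h7]
      exact h3 p hp
    · rw [h7]
      have h8 : v (γ p) = γ (v p) := by rw [← Equiv.Perm.mul_apply, h2, Equiv.Perm.mul_apply]
      rw [h8]
      rcases h3 p hp with h9 | h9
      · rw [h9]; exact Or.inr rfl
      · rw [h9, ← Equiv.Perm.mul_apply, hγ]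
        exact Or.inl rfl
  inv_mem' := by
    rintro v ⟨h1, h2, h3⟩
    have h4 : v⁻¹ * γ = γ * v⁻¹ := by
      rw [inv_mul_eq_iff_eq_mul, ← mul_assoc, h2, mul_assoc, mul_inv_cancel, mul_one]
    refine ⟨Spor.M22.inv_mem h1, h4, fun p hp => ?_⟩
    rcases h3 p hp with h5 | h5
    · left
      rw [Equiv.Perm.inv_eq_iff_eq, h5]
    · right
      have h6 : v⁻¹ p = v⁻¹ (γ (γ p)) := by rw [← Equiv.Perm.mul_apply γ γ, hγ, Equiv.Perm.one_apply]
      have h7 : v⁻¹ (γ (γ p)) = γ (v⁻¹ (γ p)) := by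
        rw [← Equiv.Perm.mul_apply, h4, Equiv.Perm.mul_apply]
      rw [h6, h7]
      congr 1
      rw [Equiv.Perm.inv_eq_iff_eq, h5]

theorem mem_Vg {γ v : Equiv.Perm GolayPt} {hγ : γ * γ = 1} :
    v ∈ Vg γ hγ ↔ v ∈ Spor.M22 ∧ v * γ = γ * v ∧ ∀ p, γ p ≠ p → v p = p ∨ v p = γ p := Iff.rfl

/-- `Vg γ` is normalised by `C(γ)` -/
theorem Vg_norm {γ : Equiv.Perm GolayPt} (hγ : γ * γ = 1) {c v : Equiv.Perm GolayPt} (hc : c ∈ D22)
    (hcγ : c * γ = γ * c) (hv : v ∈ Vg γ hγ) : c * v * c⁻¹ ∈ Vg γ hγ := by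
  obtain ⟨h1, h2, h3⟩ := hv
  have h4 : c⁻¹ * γ = γ * c⁻¹ := by
    rw [inv_mul_eq_iff_eq_mul, ← mul_assoc, hcγ, mul_assoc, mul_inv_cancel, mul_one]
  refine ⟨conj_mem_M22 hc h1, ?_, fun p hp => ?_⟩
  · calc c * v * c⁻¹ * γ = c * v * (c⁻¹ * γ) := by group
      _ = c * (v * γ) * c⁻¹ := by rw [h4]; group
      _ = (c * γ) * v * c⁻¹ := by rw [h2]; group
      _ = γ * (c * v * c⁻¹) := by rw [hcγ]; group
  · have h5 : γ (c⁻¹ p) = c⁻¹ (γ p) := by rw [← Equiv.Perm.mul_apply, ← h4, Equiv.Perm.mul_apply]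
    have h6 : γ (c⁻¹ p) ≠ c⁻¹ p := by
      rw [h5]
      exact fun e => hp (c⁻¹.injective e)
    have h7 : ∀ q : GolayPt, c (c⁻¹ q) = q := fun q => c.apply_symm_apply q
    rw [Equiv.Perm.mul_apply, Equiv.Perm.mul_apply]
    rcases h3 _ h6 with h8 | h8
    · left
      rw [h8, h7]
    · right
      rw [h8, h5, h7]

/-! ### the representative `bP` -/

theorem ok_b : ok bP = true := InvOut.ok_b

theorem b_sq : El.pm bP * El.pm bP = 1 := by
  have h := El.pr_of_weq (InvOut.okl_two ok_b ok_b) (m := []) rfl (by decide +kernel)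
  rwa [El.pr_cons, El.pr_one, El.pr_nil] at h

/-- the mask of the octad -/
def om : ℕ := 6594610

theorem om_oct : fin om ∈ octads := (fin_mem_octads_iff (by decide +kernel)).2 ⟨by decide +kernel, by decide +kernel⟩

theorem moved {i : ℕ} (hi : i < 24) (h : Nat.beq (papp bP i) i = false) : El.pm bP (pt i) ≠ pt i := by
  rw [InvOut.pm_pt ok_b hi]
  intro e
  have h1 : papp bP i < 24 := by
    have := El.val_lt (El.pm bP) i
    rwa [El.val_pm (InvM22.isPerm_of_ok ok_b) hi] at this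
  have h2 := congrArg idx e
  rw [idx_pt h1, idx_pt hi] at h2
  rw [h2, Nat.beq_refl] at h
  cases h

theorem om_moved : (El.pts.all fun i => !(Nat.testBit om i) || !(Nat.beq (papp bP i) i)) = true := by decide +kernel

/-- an element of `M24` fixing all points moved by `bP` is trivial -/
theorem eq_one_of_moved {g : Equiv.Perm GolayPt} (hg : g ∈ M24) (h : ∀ p, El.pm bP p ≠ p → g p = p) : g = 1 := by
  have hm : ∀ p ∈ fin om, El.pm bP p ≠ p := by
    intro p hp
    rw [mem_fin] at hp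
    have h1 := List.all_eq_true.1 om_moved _ (El.mem_pts (idx_lt p))
    rw [hp, Bool.not_true, Bool.false_or, Bool.not_eq_true'] at h1
    have h2 := moved (idx_lt p) h1
    rwa [pt_idx] at h2
  have h23 : (none : GolayPt) ∉ fin om := by
    rw [mem_fin]
    decide +kernel
  have h0 : El.pm bP none ≠ none := by
    have := moved (i := 23) (by norm_num) (by decide +kernel)
    rwa [InvOut.pt_23] at this
  obtain ⟨k, -, hk⟩ := existsUnique_fixOct om_oct h23 h23
  have h1 := hk g ⟨mem_fixOct.2 ⟨hg, fun x hx => h x (hm x hx)⟩, h none h0⟩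
  have h2 := hk 1 ⟨Subgroup.one_mem _, rfl⟩
  rw [h1, ← h2]

theorem Vg_sq {v : Equiv.Perm GolayPt} (hv : v ∈ Vg (El.pm bP) b_sq) : v * v = 1 := by
  obtain ⟨h1, h2, h3⟩ := hv
  have hM : v ∈ M24 := ((mem_D22_iff v).1 (M22_le_D22 h1)).1
  refine eq_one_of_moved (M24.mul_mem hM hM) fun p hp => ?_
  rw [Equiv.Perm.mul_apply]
  rcases h3 p hp with h4 | h4
  · rw [h4, h4]
  · have h8 : v (El.pm bP p) = El.pm bP (v p) := by rw [← Equiv.Perm.mul_apply, h2, Equiv.Perm.mul_apply]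
    rw [h4, h8, h4, ← Equiv.Perm.mul_apply, b_sq, Equiv.Perm.one_apply]

/-- generators of `Vg` -/
def vL : List ℕ := [984556696046180253327513914419054624, 984800045175449534942630167704616992,
  957315201869412709605548522843769536]

/-- test for a member of `Vg` -/
def chkV (P : ℕ) : Bool := ok22 P && El.weq [P, bP] [bP, P] &&
  El.pts.all fun i => Nat.beq (papp bP i) i || Nat.beq (papp P i) i || Nat.beq (papp P i) (papp bP i)

theorem chkV_all : vL.all chkV = true := by decide +kernel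

theorem mem_of_chkV {P : ℕ} (h : chkV P = true) : El.pm P ∈ Vg (El.pm bP) b_sq := by
  unfold chkV at h
  rw [Bool.and_eq_true, Bool.and_eq_true, List.all_eq_true] at h
  obtain ⟨⟨h1, h2⟩, h3⟩ := h
  refine ⟨mem22 h1, InvOut.pm_of_weq (ok22_ok h1) ok_b ok_b (ok22_ok h1) h2, fun p hp => ?_⟩
  have h4 := h3 _ (El.mem_pts (idx_lt p))
  rw [Bool.or_eq_true, Bool.or_eq_true, Nat.beq_eq, Nat.beq_eq, Nat.beq_eq] at h4
  have h5 : El.pm bP p = pt (papp bP (idx p)) := by rw [← InvOut.pm_pt ok_b (idx_lt p), pt_idx]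
  have h6 : El.pm P p = pt (papp P (idx p)) := by rw [← InvOut.pm_pt (ok22_ok h1) (idx_lt p), pt_idx]
  rcases h4 with (h4 | h4) | h4
  · exfalso
    apply hp
    rw [h5, h4, pt_idx]
  · left
    rw [h6, h4, pt_idx]
  · right
    rw [h6, h5, h4]

/-- admissible values for an element of `C_{D22}(bP)` -/
def adm (j a : ℕ) : Bool := (Nat.beq (papp bP j) j == Nat.beq (papp bP a) a) && Inv.admO j a

/-- the words -/
def ws : List (List ℕ) := [[0], [1], [2], [0, 1], [0, 2], [1, 2], [0, 1, 2]]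

/-- the roots -/
def rts : List CenCert.Root := [
  (0, [0, 23], []),
  (1, [1, 22], ws),
  (2, [2, 16], ws),
  (3, [3, 12], ws),
  (4, [4, 13], ws),
  (5, [5, 18], ws),
  (6, [6, 20], ws),
  (7, [7, 8, 9, 10, 11, 14, 17, 19], []),
  (15, [15, 21], ws),
  (23, [0, 23], [])]

/-- the tree -/
def tre : List (ℕ × List ℕ) := [(0, []), (1, []), (2, []), (3, []), (4, []), (5, []), (6, []), (7, []), (7, [2]),
  (7, [0, 1, 2]), (7, [0]), (7, [0, 1]), (3, [0]), (4, [1]), (7, [0, 2]), (8, []), (2, [1]), (7, [1]), (5, [0]),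
  (7, [1, 2]), (6, [0]), (8, [0]), (1, [2]), (9, [])]

/-- the centralizer of `Vg` in `C_{D22}(bP)` -/
def good : List ℕ := [1914911924472243136386796373820119, 1932239001265248850593219166472919,
  2158102515214927049902929001679575, 2175667668179693863887026477187799,
  29174129899140919551332112391047223, 29191900318040295081701735214989367,
  29417796289222093148449539336060983, 29435130754976128023412341036419127,
  957297074270952116610733630057202368, 957315201869412709605548522843769536,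
  957540621697899814690678152770226880, 957558313275516549297240297699689152,
  984556696046180253327513914419054624, 984574657262612311324662570656612384,
  984800045175449534942630167704616992, 984818244535754528103549039458486304]

theorem good_sq : (good.all fun Q => ok Q && El.weq [Q, Q] []) = true := by decide +kernel

/-- the test of a choice -/
def tst (c : List ℕ) : Bool := !(ok (CenCert.mk vL tre c)) || good.contains (CenCert.mk vL tre c)

/-- the candidates of the roots after the first two -/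
def rest : List (List ℕ) := [[2, 16], [3, 12], [4, 13], [5, 18], [6, 20], [7, 8, 9, 10, 11, 14, 17, 19], [15, 21], [0, 23]]

theorem all_combos {l : List ℕ} {L : List (List ℕ)} {p : List ℕ → Bool}
    (h : ∀ a ∈ l, ((CenCert.combos L).all fun c => p (a :: c)) = true) : (CenCert.combos (l :: L)).all p = true := by
  rw [List.all_eq_true]
  intro x hx
  have hx' : x ∈ l.flatMap fun a => (CenCert.combos L).map fun c => a :: c := hx
  obtain ⟨a, ha, hx⟩ := List.mem_flatMap.1 hx'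
  obtain ⟨c, hc, rfl⟩ := List.mem_map.1 hx
  exact List.all_eq_true.1 (h a ha) c hc

theorem cert12 : (vL.all ok && CenCert.chk1 vL adm rts && CenCert.chk2 vL rts tre) = true := by decide +kernel

theorem cert3a : ((CenCert.combos rest).all fun c => tst (0 :: 1 :: c)) = true := by decide +kernel

theorem cert3b : ((CenCert.combos rest).all fun c => tst (0 :: 22 :: c)) = true := by decide +kernel

theorem cert3c : ((CenCert.combos rest).all fun c => tst (23 :: 1 :: c)) = true := by decide +kernel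

theorem cert3d : ((CenCert.combos rest).all fun c => tst (23 :: 22 :: c)) = true := by decide +kernel

theorem cert3 : CenCert.chk3 vL rts tre good = true := by
  show (CenCert.combos ([0, 23] :: [1, 22] :: rest)).all tst = true
  apply all_combos
  intro a ha
  apply all_combos
  intro b hb
  rw [List.mem_cons, List.mem_singleton] at ha hb
  rcases ha with rfl | rfl <;> rcases hb with rfl | rfl
  · exact cert3a
  · exact cert3b
  · exact cert3c
  · exact cert3d

theorem cert : CenCert.chk vL adm rts tre good = true := by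
  unfold CenCert.chk
  rw [cert12, cert3]
  rfl

theorem adm_of {c : Equiv.Perm GolayPt} (hc : c ∈ D22) (hcb : c * El.pm bP = El.pm bP * c) {j : ℕ} (hj : j < 24) :
    adm j (El.val c j) = true := by
  unfold adm
  rw [Inv.admO_of hc hj, Bool.and_true, beq_iff_eq, Bool.eq_iff_iff, Nat.beq_eq, Nat.beq_eq]
  have h1 : El.val c (papp bP j) = papp bP (El.val c j) := by
    rw [← El.val_pm (InvM22.isPerm_of_ok ok_b) hj, ← El.val_mul, hcb, El.val_mul,
      El.val_pm (InvM22.isPerm_of_ok ok_b) (El.val_lt c j)]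
  rw [← h1]
  constructor
  · intro h
    rw [h]
  · intro h
    have h2 : papp bP j < 24 := by
      have := El.val_lt (El.pm bP) j
      rwa [El.val_pm (InvM22.isPerm_of_ok ok_b) hj] at this
    exact El.val_inj h2 hj h

theorem twoN_b : TwoN (El.pm bP) := by
  refine ⟨Vg (El.pm bP) b_sq, fun v hv => hv.1, fun v hv => Vg_sq hv, fun v hv => hv.2.1,
    fun c hc hcb v hv => Vg_norm b_sq hc hcb hv, fun c hc hcb hcv => ?_⟩
  obtain ⟨Q, hQ, e⟩ := CenCert.cen_of_cert cert ((mem_D22_iff c).1 hc).1 (fun j hj => adm_of hc hcb hj) (by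
    intro P hP
    exact hcv _ (mem_of_chkV (List.all_eq_true.1 chkV_all P hP)))
  have h1 := List.all_eq_true.1 good_sq Q hQ
  rw [Bool.and_eq_true] at h1
  have h := El.pr_of_weq (InvOut.okl_two h1.1 h1.1) (m := []) rfl h1.2
  rw [El.pr_cons, El.pr_one, El.pr_nil] at h
  rw [e, h]

/-! ### the class 2C -/

/-- the centralizer in `M22` -/
def Mc (γ : Equiv.Perm GolayPt) : Subgroup (Equiv.Perm GolayPt) :=
  Spor.M22 ⊓ centralizer ({γ} : Set (Equiv.Perm GolayPt))

theorem mem_Mc {γ c : Equiv.Perm GolayPt} : c ∈ Mc γ ↔ c ∈ Spor.M22 ∧ c * γ = γ * c := by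
  unfold Mc
  rw [mem_inf, mem_centralizer_singleton_iff]

theorem card_Mc_conj {γ m : Equiv.Perm GolayPt} (hm : m ∈ Spor.M22) :
    Nat.card ↥(Mc (m * γ * m⁻¹)) = Nat.card ↥(Mc γ) := by
  refine (Nat.card_congr (Equiv.subtypeEquiv (MulAut.conj m).toEquiv fun x => ?_)).symm
  show x ∈ Mc γ ↔ m * x * m⁻¹ ∈ Mc (m * γ * m⁻¹)
  rw [mem_Mc, mem_Mc]
  constructor
  · rintro ⟨h1, h2⟩
    refine ⟨conj_mem_M22 (M22_le_D22 hm) h1, ?_⟩
    calc m * x * m⁻¹ * (m * γ * m⁻¹) = m * (x * γ) * m⁻¹ := by group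
      _ = m * γ * m⁻¹ * (m * x * m⁻¹) := by rw [h2]; group
  · rintro ⟨h1, h2⟩
    constructor
    · have h3 := Spor.M22.mul_mem (Spor.M22.mul_mem (Spor.M22.inv_mem hm) h1) hm
      have e : m⁻¹ * (m * x * m⁻¹) * m = x := by group
      rwa [e] at h3
    · calc x * γ = m⁻¹ * (m * x * m⁻¹ * (m * γ * m⁻¹)) * m := by group
        _ = γ * x := by rw [h2]; group

theorem ok_c : ok cP = true := InvOut.ok_c

theorem c_sq : El.pm cP * El.pm cP = 1 := by
  have h := El.pr_of_weq (InvOut.okl_two ok_c ok_c) (m := []) rfl (by decide +kernel)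
  rwa [El.pr_cons, El.pr_one, El.pr_nil] at h

theorem c_none : El.pm cP none = some 0 := by
  rw [← InvOut.pt_23, InvOut.pm_pt ok_c (by norm_num), ← InvOut.pt_0]
  congr 1

theorem c_mem : El.pm cP ∈ M24 := InvM22.pm_mem ok_c

theorem fx_c : H866.InvolType.fx (El.pm cP) = 0 := by
  rw [El.pm_eq (InvM22.isPerm_of_ok ok_c), H866.InvolType.fx_permOf]
  decide +kernel

theorem card_CM_c : Nat.card ↥(H269.CubeMat.CM (El.pm cP)) = 7680 := by
  have h1 : El.pm cP ≠ 1 := by
    intro e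
    have := c_none
    rw [e, Equiv.Perm.one_apply] at this
    cases this
  rcases H269.CubeMat.card_cent c_mem c_sq h1 with ⟨h, -, -⟩ | ⟨-, h, -⟩
  · rw [fx_c] at h
    omega
  · exact h

/-- `C_{M24}(cP)` is transitive -/
theorem trans_c (p : GolayPt) : ∃ k ∈ H269.CubeMat.CM (El.pm cP), k none = p := by
  have hc := InvOut.chk2
  unfold InvOut.chk at hc
  rw [Bool.and_eq_true, Bool.and_eq_true, Bool.and_eq_true, Bool.and_eq_true, Bool.and_eq_true,
    Bool.and_eq_true, Nat.beq_eq, Nat.beq_eq, List.all_eq_true] at hc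
  obtain ⟨hrow, ⟨⟨⟨⟨hP, hrep⟩, hg0⟩, h23⟩, -⟩, hw⟩ := hc
  have hw' := InvOut.pm_of_weq hP hg0 hg0 hrep hw
  set g := El.pm InvOut.gC with hg
  set Q := El.pm J4.M24InvolData.P2 with hQ
  have hgM : g ∈ M24 := InvM22.pm_mem hg0
  have hnf : (El.pts.all fun i => !(Nat.beq (papp J4.M24InvolData.P2 i) i)) = true := by decide +kernel
  have h1 := hrow _ (El.mem_pts (idx_lt (g p)))
  have h2 := List.all_eq_true.1 hnf _ (El.mem_pts (idx_lt (g p)))
  rw [Bool.not_eq_true'] at h2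
  rw [h2, Bool.false_or, List.any_eq_true] at h1
  obtain ⟨h, -, hh⟩ := h1
  unfold InvOut.row at hh
  rw [Bool.and_eq_true, Bool.and_eq_true, Nat.beq_eq] at hh
  obtain ⟨⟨hok, hhw⟩, hv⟩ := hh
  have hcomm := InvOut.pm_of_weq hok hP hP hok hhw
  set k := El.pm h with hk
  have hkM : k ∈ M24 := InvM22.pm_mem hok
  have e1 : k (g p) = pt 0 := by rw [← pt_idx (g p), hk, InvOut.pm_pt hok (idx_lt _), hv]
  have e2 : g none = pt 0 := by rw [← InvOut.pt_23, hg, InvOut.pm_pt hg0 (by norm_num), h23]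
  refine ⟨g⁻¹ * k⁻¹ * g, H269.CubeMat.mem_CM.2 ⟨M24.mul_mem (M24.mul_mem (M24.inv_mem hgM) (M24.inv_mem hkM)) hgM, ?_⟩,
    ?_⟩
  · have e3 : El.pm cP = g⁻¹ * Q * g := by rw [mul_assoc, hw']; group
    have e4 : k⁻¹ * Q = Q * k⁻¹ := by
      rw [inv_mul_eq_iff_eq_mul, ← mul_assoc, hcomm, mul_assoc, mul_inv_cancel, mul_one]
    rw [e3]
    calc g⁻¹ * k⁻¹ * g * (g⁻¹ * Q * g) = g⁻¹ * (k⁻¹ * Q) * g := by group
      _ = g⁻¹ * Q * g * (g⁻¹ * k⁻¹ * g) := by rw [e4]; group
  · show g⁻¹ (k⁻¹ (g none)) = p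
    rw [e2, ← e1, show k⁻¹ (k (g p)) = g p from k.symm_apply_apply _]
    exact g.symm_apply_apply _

theorem card_Mc_c : Nat.card ↥(Mc (El.pm cP)) = 320 := by
  set H := H269.CubeMat.CM (El.pm cP) with hH
  have h1 : (MulAction.stabilizer ↥H (none : GolayPt)).index = 24 := by
    rw [MulAction.index_stabilizer]
    have h2 : MulAction.orbit ↥H (none : GolayPt) = Set.univ := by
      ext p
      refine ⟨fun _ => Set.mem_univ _, fun _ => ?_⟩
      obtain ⟨k, hk, hkp⟩ := trans_c p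
      exact ⟨⟨k, hk⟩, hkp⟩
    rw [h2, Set.ncard_univ, Nat.card_eq_fintype_card]
    rfl
  have h2 := (MulAction.stabilizer ↥H (none : GolayPt)).card_mul_index
  rw [h1, hH, card_CM_c] at h2
  have h3 : Nat.card ↥(Mc (El.pm cP)) = Nat.card ↥(MulAction.stabilizer ↥H (none : GolayPt)) := by
    refine Nat.card_congr ⟨fun c => ⟨⟨c.1, ?_⟩, ?_⟩, fun c => ⟨c.1.1, ?_⟩, fun _ => rfl, fun _ => rfl⟩
    · have h4 := mem_Mc.1 c.2
      exact H269.CubeMat.mem_CM.2 ⟨((mem_D22_iff _).1 (M22_le_D22 h4.1)).1, h4.2⟩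
    · have h4 := ((Cfsg.Agent.SporadicA.MathieuRecog.mem_M22_iff _).1 (mem_Mc.1 c.2).1).2.1
      exact h4
    · have h4 := H269.CubeMat.mem_CM.1 c.1.2
      have h5 : (c.1.1 : Equiv.Perm GolayPt) none = none := c.2
      refine mem_Mc.2 ⟨(Cfsg.Agent.SporadicA.MathieuRecog.mem_M22_iff _).2 ⟨h4.1, h5, ?_⟩, h4.2⟩
      rw [← c_none, ← Equiv.Perm.mul_apply, h4.2, Equiv.Perm.mul_apply, h5]
  rw [← hH] at h2
  omega

/-- **The involutions of `M22:2`.** -/
theorem cases {γ : Equiv.Perm GolayPt} (hγ : γ ∈ D22) (h2 : γ * γ = 1) (h1 : γ ≠ 1) :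
    Nat.card ↥(Mc γ) = 384 ∨ Nat.card ↥(Mc γ) = 320 ∨ TwoN γ := by
  by_cases h : γ ∈ Spor.M22
  · left
    have h3 : orderOf (⟨γ, h⟩ : Spor.M22) = 2 :=
      orderOf_eq_prime (Subtype.ext (by rw [pow_two]; exact h2)) (fun e => h1 (congrArg Subtype.val e))
    rw [← H992.Stages.card_cent_m22 h3, ← H269.CubeMat.coe_centralizer]
    rfl
  · right
    obtain ⟨m, hm, e | e⟩ := InvOut.inv_out hγ h h2
    · right
      rw [e]
      exact twoN_b.conj hm
    · left
      rw [e, card_Mc_conj hm, card_Mc_c]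

/-! ### the group `G` -/

section G

variable {G : Type*} [Group G] [Finite G] {K : Subgroup G}

omit [Finite G] in
theorem exists_emb (hn : K.Normal) (hK : Spor.IsoM22 ↥K) (hc : centralizer (K : Set G) = ⊥) :
    ∃ f : G →* Equiv.Perm GolayPt, Function.Injective f ∧ (∀ g, f g ∈ D22) ∧ K.map f = Spor.M22 := by
  obtain ⟨e⟩ := hK
  let j : ↥(Spor.M22.subgroupOf D22) ≃* ↥Spor.M22 := subgroupOfEquivOfLe M22_le_D22
  have hj : ∀ x : ↥(Spor.M22.subgroupOf D22), ((j x : ↥Spor.M22) : Equiv.Perm GolayPt) = ((x : ↥D22) : Equiv.Perm GolayPt) :=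
    fun x => rfl
  obtain ⟨φ, h1, h2, -⟩ := UGT.End.Embed.exists_embed (D := ↥D22) (F := K) (N := Spor.M22.subgroupOf D22)
    (e.trans j.symm) (fun d hd => Subtype.ext (UGT.End.M22.eq_one_of_comm d.2 fun n hn =>
      congrArg Subtype.val (hd ⟨n, M22_le_D22 hn⟩ hn))) (by
      intro α
      obtain ⟨d, hd, hdα⟩ := exists_conj ((j.symm.trans α).trans j)
      refine ⟨⟨d, hd⟩, fun n => Subtype.ext ?_⟩
      have h1 := hdα (j n)
      have h2 : (((j.symm.trans α).trans j) (j n) : Equiv.Perm GolayPt) = ((α n : ↥D22) : Equiv.Perm GolayPt) := by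
        show ((j (α (j.symm (j n))) : ↥Spor.M22) : Equiv.Perm GolayPt) = _
        rw [j.symm_apply_apply, hj]
      rw [h2, hj] at h1
      exact h1) (by rw [hc]; exact bot_le)
  have h3 := UGT.End.Embed.range_of_coe _ h2
  refine ⟨D22.subtype.comp φ, D22.subtype_injective.comp h1, fun g => (φ g).2, ?_⟩
  rw [← Subgroup.map_map, h3, Subgroup.subgroupOf_map_subtype, inf_eq_left.2 M22_le_D22]

/-- a group which is an extension of a solvable group by one of exponent 2 -/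
theorem solvable_of_sq {X : Type*} [Group X] {N : Subgroup X} [N.Normal] (hN : Group.IsSolvable ↥N)
    (hq : ∀ x : X, x * x ∈ N) : Group.IsSolvable X := by
  have h1 : Group.IsSolvable (X ⧸ N) := by
    refine Group.isSolvable_of_comm ?_
    have h2 : ∀ a : X ⧸ N, a * a = 1 := by
      intro a
      obtain ⟨x, rfl⟩ := QuotientGroup.mk_surjective a
      rw [← QuotientGroup.mk_mul]
      exact (QuotientGroup.eq_one_iff _).2 (hq x)
    intro a b
    have h3 : ∀ c : X ⧸ N, c⁻¹ = c := fun c => inv_eq_of_mul_eq_one_left (h2 c)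
    have h4 := h3 (a * b)
    rw [mul_inv_rev, h3, h3] at h4
    exact h4.symm
  exact (Group.isSolvable_iff_subgroup_quotient N).2 ⟨hN, h1⟩

theorem cp_m22 (hn : K.Normal) (hK : Spor.IsoM22 ↥K) (hc : centralizer (K : Set G) = ⊥) {x : G}
    (hx : orderOf x = 2) : CP 2 ↥(centralizer ({x} : Set G)) := by
  have hp2 : Fact (Nat.Prime 2) := ⟨Nat.prime_two⟩
  have hxx : x * x = 1 := by rw [← pow_two, ← hx, pow_orderOf_eq_one]
  have hx1 : x ≠ 1 := by
    rintro rfl
    rw [orderOf_one] at hx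
    omega
  obtain ⟨f, hf, hD, hKf⟩ := exists_emb hn hK hc
  have hcore : pPrimeCore 2 ↥(centralizer ({x} : Set G)) = ⊥ := by
    have h1 := UGT.End.M22.end_of_normal G K hn hK hc x hx
    unfold centralizerPPrimeCore at h1
    rwa [map_eq_bot_iff_of_injective _ (subtype_injective _)] at h1
  have hK2 : ∀ g : G, g * g ∈ K := by
    intro g
    have h1 : f g * f g ∈ K.map f := by
      rw [hKf]
      exact UGT.End.M22.sq_mem (hD g)
    obtain ⟨k, hk, hkg⟩ := h1
    rw [← map_mul] at hkg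
    rwa [← hf hkg]
  set X := centralizer ({x} : Set G) with hX
  have hmem : ∀ g : G, g ∈ X ↔ g * x = x * g := fun g => mem_centralizer_singleton_iff
  have hmapK : (K ⊓ X).map f = Mc (f x) := by
    ext c
    rw [mem_Mc]
    constructor
    · rintro ⟨k, ⟨hk1, hk2⟩, rfl⟩
      refine ⟨by rw [← hKf]; exact ⟨k, hk1, rfl⟩, ?_⟩
      rw [← map_mul, (hmem k).1 hk2, map_mul]
    · rintro ⟨h1, h2⟩
      rw [← hKf] at h1
      obtain ⟨k, hk, rfl⟩ := h1
      rw [← map_mul, ← map_mul] at h2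
      exact ⟨k, ⟨hk, (hmem k).2 (hf h2)⟩, rfl⟩
  have hcard : Nat.card ↥(K.subgroupOf X) = Nat.card ↥(Mc (f x)) := by
    rw [← hmapK, card_map_of_injective hf, ← Subgroup.inf_subgroupOf_right K X,
      Nat.card_congr (subgroupOfEquivOfLe (inf_le_right : K ⊓ X ≤ X)).toEquiv]
  have hsol : ∀ q b a : ℕ, q.Prime → Nat.card ↥(Mc (f x)) = 2 ^ a * q ^ b → CP 2 ↥X := by
    intro q b a hq hm
    have h1 : Group.IsSolvable ↥(K.subgroupOf X) := S0144.result 2 q a b Nat.prime_two hq (by rw [hcard, hm])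
    have h2 : Group.IsSolvable ↥X := solvable_of_sq h1 fun y => hK2 (y : G)
    exact Lib.HallHigman.centralizer_pCore_le_of_solvable 2 hcore
  rcases cases (hD x) (by rw [← map_mul, hxx, map_one]) (by rwa [Ne, map_eq_one_iff f hf]) with h | h | h
  · exact hsol 3 1 7 Nat.prime_three (by rw [h]; norm_num)
  · exact hsol 5 1 6 (by norm_num) (by rw [h]; norm_num)
  · obtain ⟨V, h1, h2, h3, h4, h5⟩ := h
    let W : Subgroup ↥X := V.comap (f.comp X.subtype)
    have hW : ∀ w : ↥X, w ∈ W ↔ f (w : G) ∈ V := fun w => Iff.rfl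
    have hcomm : ∀ c : ↥X, f (c : G) * f x = f x * f (c : G) := by
      intro c
      rw [← map_mul, (hmem c).1 c.2, map_mul]
    have hWn : W.Normal := ⟨fun w hw c => by
      rw [hW] at hw ⊢
      have h6 := h4 (f (c : G)) (hD _) (hcomm c) _ hw
      rwa [← map_inv, ← map_mul, ← map_mul] at h6⟩
    have hsq : ∀ c : G, f c * f c = 1 → c ^ 2 = 1 := by
      intro c h6
      rw [pow_two]
      apply hf
      rw [map_mul, h6, map_one]
    refine H239.CpCent.cp_of_normal (N := W) (H226.Tall.cp_of_isPGroup ?_) ?_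
    · rintro ⟨w, hw⟩
      refine ⟨1, Subtype.ext (Subtype.ext ?_)⟩
      rw [pow_one]
      exact hsq (w : G) (h2 _ hw)
    · rintro ⟨c, hcW⟩
      refine ⟨1, Subtype.ext (Subtype.ext ?_)⟩
      rw [pow_one]
      refine hsq (c : G) (h5 _ (hD _) (hcomm c) fun v hv => ?_)
      have h6 : v ∈ K.map f := by
        rw [hKf]
        exact h1 hv
      obtain ⟨k, hk, rfl⟩ := h6
      have h7 : k ∈ X := by
        rw [hmem]
        apply hf
        rw [map_mul, map_mul]
        exact h3 _ hv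
      have h8 := mem_centralizer_iff.1 hcW (⟨k, h7⟩ : ↥X) hv
      have h9 : k * (c : G) = (c : G) * k := congrArg Subtype.val h8
      rw [← map_mul, ← map_mul, h9]

end G

universe u

/-- **[SPM22]** -/
theorem no1_m22 : H226.Tall.No1.{u} (fun K _ => Spor.IsoM22 K) := fun h hK =>
  h.x_bad (cp_m22 h.nK hK h.cent h.x_ord)

theorem rowTwo_M22 : H226.Tall.RowTwo ↥Spor.M22 := by
  intro z hz hp
  have hp2 : Fact (Nat.Prime 2) := ⟨Nat.prime_two⟩
  obtain ⟨n, hn⟩ := IsPGroup.iff_card.1 hp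
  rw [H992.Stages.card_cent_m22 hz.1] at hn
  have h3 : 3 ∣ 2 ^ n := by
    rw [← hn]
    norm_num
  have h4 := Nat.prime_three.dvd_of_dvd_pow h3
  omega

theorem rowTwo_m22 {K : Type*} [Group K] (h : Spor.IsoM22 K) : H226.Tall.RowTwo K := by
  obtain ⟨e⟩ := h
  exact rowTwo_M22.congr e.symm

end Cfsg.Agent.H968.Tall.M22
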